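import Groth.Agent.Lib.Helper19.LocDim.Sp
import Groth.Agent.Lib.Helper15.AlgSpCodim0
import Groth.Agent.Lib.Helper14.LocalDimSch
import Groth.Agent.Lib.Helper14.AffSpEquidim2
import Groth.Agent.S9687

/-!
# The dimension formula (inequality) for morphisms of algebraic spaces locally of finite type
-/

set_option autoImplicit false
set_option linter.style.haveILetI false
universe u
open CategoryTheory CategoryTheory.Limits AlgebraicGeometry MorphismProperty
open AlgSp Groth.Agent.Helper15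

namespace Groth.Agent.Helper19.LocDim

variable {S : Scheme.{u}}

/-- the local ring at the generic point of an irreducible component has dimension zero -/
theorem ringKrullDim_stalk_eq_zero_of_component {U : Scheme.{u}} (ξ : U)
    (hξ : closure {ξ} ∈ irreducibleComponents ↥U) :
    ringKrullDim ↥(U.presheaf.stalk ξ) = 0 := by
  rw [ringKrullDim_stalk_eq_coheight]
  norm_cast
  rw [Order.coheight_eq_zero]
  intro η' hη'
  have hη'' : η' ⤳ ξ := hη'
  have := Groth.Agent.Helper14.AffSpEquidim.maximal_of_closure_mem_irreducibleComponents ξ hξ η' hη''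
  rw [this]

theorem add_toENat_top_eq_top (b : WithBot ℕ∞) (hb : 0 ≤ b) :
    b + (((⊤ : ℕ∞)) : WithBot ℕ∞) = ⊤ := by
  induction b using WithBot.recBotCoe with
  | bot => exact absurd hb (by simp)
  | coe b =>
    rw [← WithBot.coe_add, add_top]
    rfl

/-- the dimension formula at a point of a chart -/
theorem chart_dim_formula {U V : Scheme.{u}} [IsLocallyNoetherian V] (h : U ⟶ V)
    [LocallyOfFiniteType h] (u : U) (E : Cardinal.{u})
    (hE : ∀ ξ : U, ξ ⤳ u → ringKrullDim ↥(U.presheaf.stalk ξ) = 0 → Dual3.resTrdeg h ξ ≤ E) :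
    ringKrullDim ↥(U.presheaf.stalk u) +
        ((Cardinal.toENat (Dual3.resTrdeg h u) : ℕ∞) : WithBot ℕ∞) ≤
      ringKrullDim ↥(V.presheaf.stalk (h u)) + ((Cardinal.toENat E : ℕ∞) : WithBot ℕ∞) := by
  obtain ⟨n, hn⟩ := Groth.Agent.Helper14.ResFieldBridge.exists_nat_trdeg_residueField h u
  have hn' : Dual3.resTrdeg h u = (n : Cardinal.{u}) := hn
  by_cases hfin : E < Cardinal.aleph0
  · obtain ⟨E', rfl⟩ := Cardinal.lt_aleph0.1 hfin
    have key := Groth.Agent.S9687.result h u n E' hn (fun ξ hξ hsp =>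
      hE ξ hsp (ringKrullDim_stalk_eq_zero_of_component ξ hξ))
    rw [hn']
    simpa using key
  · have htop : Cardinal.toENat E = ⊤ := Cardinal.toENat_eq_top.2 (not_lt.1 hfin)
    rw [htop, add_toENat_top_eq_top _ ringKrullDim_nonneg_of_nontrivial]
    exact le_top

/-- S10323 at the level of sheaves -/
theorem dim_localRing_le {X Y : Sp S} (hXa : IsAlgSpace X) (hYa : IsAlgSpace Y) (f : X ⟶ Y)
    (hY : IsLocNoethSp Y) (hf : LocP @LocallyOfFiniteType f) (x : Points X)
    (E : Cardinal.{u})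
    (hE : ∀ ξ : Points X, ξ ⤳ x →
      HasAt (fun U u => ringKrullDim ↥(U.presheaf.stalk u) = 0) X ξ →
      ∀ s : Cardinal.{u}, HasAtMor (fun _ _ h u => Dual3.resTrdeg h u = s) f ξ → s ≤ E)
    (a b : WithBot ℕ∞) (r : Cardinal.{u})
    (ha : HasAt (fun U u => ringKrullDim ↥(U.presheaf.stalk u) = a) X x)
    (hb : HasAt (fun U u => ringKrullDim ↥(U.presheaf.stalk u) = b) Y (Points.map f x))
    (hr : HasAtMor (fun _ _ h u => Dual3.resTrdeg h u = r) f x) :
    a + ((Cardinal.toENat r : ℕ∞) : WithBot ℕ∞) ≤ b + ((Cardinal.toENat E : ℕ∞) : WithBot ℕ∞) := by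
  obtain ⟨U, V, α, β, h, u, hα, hβ, comm, hxu, hlft⟩ := Trdeg.exists_chart_at hXa hYa f hf x
  haveI : LocallyOfFiniteType h.left := hlft
  haveI : IsLocallyNoetherian V.left := isLocallyNoetherian_of_etale_of_isLocNoethSp hY β hβ
  have h1 : ringKrullDim ↥(U.left.presheaf.stalk u) = a :=
    hasAt_forall_chart (etInv_ringKrullDim_stalk a) x ha U α u hα hxu
  have hv : Points.ofPt β (h.left u) = Points.map f x := by
    rw [ofPt_chart_image f α β h comm u, hxu]
  have h2 : ringKrullDim ↥(V.left.presheaf.stalk (h.left u)) = b :=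
    hasAt_forall_chart (etInv_ringKrullDim_stalk b) _ hb V β _ hβ hv
  have h3 : Dual3.resTrdeg h.left u = r :=
    Trdeg.hasAtMor_resTrdeg_unique f x _ _ ⟨U, V, α, β, h, u, hα, hβ, comm, hxu, rfl⟩ hr
  have key := chart_dim_formula h.left u E (fun ξ hsp hdim => by
    refine hE (Points.ofPt α ξ) ?_ ⟨U, α, ξ, hα, rfl, hdim⟩ _
      ⟨U, V, α, β, h, ξ, hα, hβ, comm, rfl, rfl⟩
    rw [← hxu]
    exact hsp.map (Points.continuous_ofPt α))
  rw [h1, h2, h3] at key
  exact key

/-- S10324 at the level of sheaves -/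
theorem dim_le_dim_add {X Y : Sp S} (hYa : IsAlgSpace Y) (f : X ⟶ Y)
    (hY : IsLocNoethSp Y) (hf : LocP @LocallyOfFiniteType f) (E : Cardinal.{u})
    (hE : ∀ ξ : Points X,
      HasAt (fun U u => ringKrullDim ↥(U.presheaf.stalk u) = 0) X ξ →
      ∀ s : Cardinal.{u}, HasAtMor (fun _ _ h u => Dual3.resTrdeg h u = s) f ξ → s ≤ E) :
    AlgSp.dim X ≤ AlgSp.dim Y + ((Cardinal.toENat E : ℕ∞) : WithBot ℕ∞) := by
  refine iSup_le (fun U => iSup_le (fun a => iSup_le (fun ha => ?_)))
  obtain ⟨V, q, hqe, hqs⟩ := hYa.atlas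
  have hrep : Representable (a ≫ f) := hYa.representable_from_yon _
  have sq := hrep.isPullback' q
  haveI h2 : Etale (hrep.fst' q).left := hqe.property (a ≫ f) _ _ sq.flip
  haveI h2s : Surjective (hrep.fst' q).left := hqs.property (a ≫ f) _ _ sq.flip
  have hcomm : ((yon S).map (hrep.fst' q) ≫ a) ≫ f = (yon S).map (hrep.snd q) ≫ q := by
    rw [Category.assoc]; exact sq.w
  have hα : RepWith @Etale ((yon S).map (hrep.fst' q) ≫ a) :=
    (RepWith @Etale).comp_mem _ _ ((repWith_yon_map_iff _ _).2 h2) ha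
  haveI : LocallyOfFiniteType (hrep.snd q).left := hf _ q (hrep.snd q) hα hqe hcomm
  haveI : IsLocallyNoetherian V.left := isLocallyNoetherian_of_etale_of_isLocNoethSp hY q hqe
  have hV : topologicalKrullDim ↥V.left ≤ AlgSp.dim Y :=
    le_iSup_of_le V (le_iSup_of_le q (le_iSup_of_le hqe le_rfl))
  rw [Groth.Agent.Helper14.LocalDimSch.dim_eq_iSup_stalk]
  refine iSup_le (fun u => ?_)
  obtain ⟨w, rfl⟩ := (hrep.fst' q).left.surjective u
  rw [← ringKrullDim_stalk_eq_of_etale (hrep.fst' q).left w]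
  have key := chart_dim_formula (hrep.snd q).left w E (fun ξ _ hdim =>
    hE (Points.ofPt ((yon S).map (hrep.fst' q) ≫ a) ξ) ⟨_, _, ξ, hα, rfl, hdim⟩ _
      ⟨_, V, _, q, hrep.snd q, ξ, hα, hqe, hcomm, rfl, rfl⟩)
  have h0 : (0 : WithBot ℕ∞) ≤
      ((Cardinal.toENat (Dual3.resTrdeg (hrep.snd q).left w) : ℕ∞) : WithBot ℕ∞) := by
    exact_mod_cast (zero_le)
  refine (le_add_of_nonneg_right h0).trans (key.trans ?_)
  gcongr
  refine le_trans ?_ hV
  rw [Groth.Agent.Helper14.LocalDimSch.dim_eq_iSup_stalk]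
  exact le_iSup (fun v : V.left => ringKrullDim ↥(V.left.presheaf.stalk v)) _

end Groth.Agent.Helper19.LocDim
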