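import Groth.Agent.Lib.Helper14.FlatRelDim
import Groth.Agent.Lib.Helper14.FibreGeneric

/-!
# Local dimension of the source of a flat morphism with fibres of local dimension `d` everywhere
(pointwise variant of helper14's `FlatRelDim.localDim_eq`)
-/

set_option autoImplicit false
set_option linter.style.haveILetI false
universe u
open CategoryTheory CategoryTheory.Limits AlgebraicGeometry TopologicalSpace

namespace Groth.Agent.Helper19.LocDim

open Groth.Agent.Helper14

variable {X Y : Scheme.{u}} (f : X ⟶ Y)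

/-- upper bound for the local rings of the source -/
theorem stalk_le [LocallyOfFiniteType f] [Flat f] [IsLocallyNoetherian X] [IsLocallyNoetherian Y]
    (d : ℕ) (u : X) (hd : FlatMor.fibreDimAt f u = (d : WithBot ℕ∞)) :
    ringKrullDim (X.presheaf.stalk u) ≤
      ringKrullDim (Y.presheaf.stalk (f u)) + (d : WithBot ℕ∞) := by
  have hι : f.fiberι (f u) (f.asFiber u) = u := f.fiberι_asFiber u
  have h := FlatRelDim.stalk_dim_flat f (f u) (f.asFiber u)
  obtain ⟨n, hn⟩ := ResFieldBridge.exists_nat_trdeg_residueField f u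
  have h1 := FibreGeneric.fibreDimAt_eq_stalk_add_trdeg f u n hn
  have e1 : ringKrullDim (X.presheaf.stalk (f.fiberι (f u) (f.asFiber u))) =
      ringKrullDim (X.presheaf.stalk u) :=
    congrArg (fun a => ringKrullDim (X.presheaf.stalk a)) hι
  have e2 : ringKrullDim (Y.presheaf.stalk (f (f.fiberι (f u) (f.asFiber u)))) =
      ringKrullDim (Y.presheaf.stalk (f u)) :=
    congrArg (fun a => ringKrullDim (Y.presheaf.stalk (f a))) hι
  rw [e1, e2] at h
  rw [h]
  gcongr
  rw [← hd, h1]
  have hn0 : (0 : WithBot ℕ∞) ≤ (n : WithBot ℕ∞) := by exact_mod_cast (Nat.zero_le n)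
  exact le_add_of_nonneg_right hn0

/-- at a point with residue field algebraic over the base point, the bound is attained -/
theorem stalk_eq_of_trdeg_zero [LocallyOfFiniteType f] [Flat f] [IsLocallyNoetherian X]
    [IsLocallyNoetherian Y]
    (d : ℕ) (u : X) (hd : FlatMor.fibreDimAt f u = (d : WithBot ℕ∞))
    (h0 : @Algebra.trdeg (Y.residueField (f u)) (X.residueField u) _ _
      (f.residueFieldMap u).hom.toAlgebra = 0) :
    ringKrullDim (X.presheaf.stalk u) =
      ringKrullDim (Y.presheaf.stalk (f u)) + (d : WithBot ℕ∞) := by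
  have hι : f.fiberι (f u) (f.asFiber u) = u := f.fiberι_asFiber u
  have h := FlatRelDim.stalk_dim_flat f (f u) (f.asFiber u)
  have h1 := FibreGeneric.fibreDimAt_eq_stalk_add_trdeg f u 0 (by rw [h0]; rfl)
  have e1 : ringKrullDim (X.presheaf.stalk (f.fiberι (f u) (f.asFiber u))) =
      ringKrullDim (X.presheaf.stalk u) :=
    congrArg (fun a => ringKrullDim (X.presheaf.stalk a)) hι
  have e2 : ringKrullDim (Y.presheaf.stalk (f (f.fiberι (f u) (f.asFiber u)))) =
      ringKrullDim (Y.presheaf.stalk (f u)) :=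
    congrArg (fun a => ringKrullDim (Y.presheaf.stalk (f a))) hι
  rw [e1, e2] at h
  rw [h, ← hd, h1]
  simp

/-- every nonempty open part of a fibre contains a point with residue field algebraic over the
base point -/
theorem exists_trdeg_zero [LocallyOfFiniteType f] (U : X.Opens) (u₀ : X) (hu₀ : u₀ ∈ U) :
    ∃ u ∈ U, f u = f u₀ ∧ @Algebra.trdeg (Y.residueField (f u)) (X.residueField u) _ _
      (f.residueFieldMap u).hom.toAlgebra = 0 := by
  obtain ⟨w, -, hw, hw0⟩ := DimClosure.exists_specializes_trdeg_eq_zero (U.ι ≫ f) ⟨u₀, hu₀⟩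
  have hcomp := DimClosure.trdeg_comp U.ι f w
  rw [hw0] at hcomp
  have hz0 := (add_eq_zero.mp hcomp.symm).1
  refine ⟨U.ι w, w.2, ?_, hz0⟩
  have := hw
  simpa using this

/-- **Local dimension of the source of a flat morphism whose fibres have local dimension `d` at
all points.** -/
theorem localDim_eq [LocallyOfFiniteType f] [Flat f] [IsLocallyNoetherian X]
    [IsLocallyNoetherian Y] (d : ℕ)
    (hd : ∀ u : X, FlatMor.fibreDimAt f u = (d : WithBot ℕ∞)) (x : X) :
    FlatMor.localDim X x = FlatMor.localDim Y (f x) + (d : WithBot ℕ∞) := by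
  apply le_antisymm
  · obtain ⟨V, hxV, hV⟩ := FlatRelDim.exists_dim_eq_localDim (T := Y) (f x)
    rw [← hV]
    have hxU : x ∈ f ⁻¹ᵁ V := hxV
    have h0 : FlatMor.localDim X x ≤ topologicalKrullDim ((f ⁻¹ᵁ V : Opens X) : Set X) := by
      unfold FlatMor.localDim
      exact iInf_le _ (⟨f ⁻¹ᵁ V, hxU⟩ : {U : Opens X // x ∈ U})
    refine h0.trans ?_
    apply LocalDimSch.dim_opens_le
    intro u hu
    refine (stalk_le f d u (hd u)).trans ?_
    gcongr
    exact LocalDimSch.stalk_le_dim_opens V (f u) hu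
  · unfold FlatMor.localDim
    refine le_iInf ?_
    rintro ⟨U, hxU⟩
    have hopen : IsOpen ((f : X → Y) '' (U : Set X)) := f.isOpenMap _ U.isOpen
    let V : Opens Y := ⟨(f : X → Y) '' (U : Set X), hopen⟩
    have hyV : f x ∈ V := ⟨x, hxU, rfl⟩
    have h1 : (⨅ V : {V : Opens Y // f x ∈ V}, topologicalKrullDim (V.1 : Set Y)) ≤
        topologicalKrullDim (V : Set Y) := iInf_le _ (⟨V, hyV⟩ : {V : Opens Y // f x ∈ V})
    refine (add_le_add_left h1 _).trans ?_
    rw [LocalDimSch.dim_opens V]
    apply DimFormulaSch.iSup_add_le_aux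
    rintro ⟨y', u₀, hu₀, rfl⟩
    obtain ⟨u, huU, hfu, h0⟩ := exists_trdeg_zero f U u₀ hu₀
    have hdim := stalk_eq_of_trdeg_zero f d u (hd u) h0
    have e : ringKrullDim (Y.presheaf.stalk (f u)) = ringKrullDim (Y.presheaf.stalk (f u₀)) :=
      congrArg (fun a => ringKrullDim (Y.presheaf.stalk a)) hfu
    rw [e] at hdim
    rw [← hdim]
    exact LocalDimSch.stalk_le_dim_opens U u huU

end Groth.Agent.Helper19.LocDim
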