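import Groth.Agent.Lib.Helper19.LocDim.Sch
import Groth.Agent.Lib.Helper19.RelDim.Basic
import Groth.Agent.Lib.Helper15.SchemeDim
import Groth.Agent.S2768

/-!
# Local dimension of the source of a smooth morphism
-/

set_option autoImplicit false
set_option linter.style.haveILetI false
universe u
open CategoryTheory CategoryTheory.Limits AlgebraicGeometry TopologicalSpace

namespace Groth.Agent.Helper19.LocDim

variable {X Y : Scheme.{u}} (f : X ⟶ Y)

/-- the local dimension of the fibre in a standard smooth chart of relative dimension `n`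
(local form of S2768, same proof) -/
theorem fibreDimAt_eq_of_chart (n : ℕ) {U : Y.Opens} (hU : IsAffineOpen U) {V : X.Opens}
    (hV : IsAffineOpen V) (e : V ≤ f ⁻¹ᵁ U)
    (hstd : RingHom.IsStandardSmoothOfRelativeDimension n (f.appLE U V e).hom) (x : X)
    (hxV : x ∈ V) : FlatMor.fibreDimAt f x = (n : WithBot ℕ∞) := by
  letI alg : Algebra Γ(Y, U) Γ(X, V) := (f.appLE U V e).hom.toAlgebra
  have halg : algebraMap Γ(Y, U) Γ(X, V) = (f.appLE U V e).hom := rfl
  haveI : Algebra.IsStandardSmoothOfRelativeDimension n Γ(Y, U) Γ(X, V) := hstd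
  rw [Groth.Agent.Helper14.FibreChart.fibreDimAt_eq f hV hU e halg x hxV]
  haveI := (hU.primeIdealOf ⟨f.base x, e hxV⟩).isPrime
  apply Groth.Agent.S2768.localDim_eq_of_forall_away
  intro g hnt
  haveI : Algebra.IsStandardSmoothOfRelativeDimension 0
      ((hU.primeIdealOf ⟨f.base x, e hxV⟩).asIdeal.Fiber Γ(X, V)) (Localization.Away g) :=
    Algebra.IsStandardSmoothOfRelativeDimension.localization_away g
  haveI : Algebra.IsStandardSmoothOfRelativeDimension n
      (hU.primeIdealOf ⟨f.base x, e hxV⟩).asIdeal.ResidueField (Localization.Away g) := by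
    have := Algebra.IsStandardSmoothOfRelativeDimension.trans (n := n) (m := 0)
      (hU.primeIdealOf ⟨f.base x, e hxV⟩).asIdeal.ResidueField
      ((hU.primeIdealOf ⟨f.base x, e hxV⟩).asIdeal.Fiber Γ(X, V)) (Localization.Away g)
    simpa using this
  obtain ⟨φ, hφ⟩ := Algebra.IsStandardSmoothOfRelativeDimension.exists_etale_mvPolynomial n
    (hU.primeIdealOf ⟨f.base x, e hxV⟩).asIdeal.ResidueField (Localization.Away g)
  letI := φ.toRingHom.toAlgebra
  haveI : Algebra.Etale (MvPolynomial (Fin n)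
      (hU.primeIdealOf ⟨f.base x, e hxV⟩).asIdeal.ResidueField) (Localization.Away g) :=
    RingHom.etale_algebraMap.mp hφ
  exact Groth.Agent.Helper14.SmoothDim.ringKrullDim_eq_of_etale
    (hU.primeIdealOf ⟨f.base x, e hxV⟩).asIdeal.ResidueField n (Localization.Away g)

/-- the local fibre dimension of a smooth morphism is locally constant (and finite) -/
theorem exists_open_fibreDimAt_eq [Smooth f] (x : X) :
    ∃ (V : X.Opens) (n : ℕ), x ∈ V ∧ ∀ x' ∈ V, FlatMor.fibreDimAt f x' = (n : WithBot ℕ∞) := by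
  obtain ⟨U, hU, V, hV, hxV, e, hstd⟩ := Smooth.exists_isStandardSmooth f x
  letI alg : Algebra Γ(Y, U) Γ(X, V) := (f.appLE U V e).hom.toAlgebra
  have hstd' : Algebra.IsStandardSmooth Γ(Y, U) Γ(X, V) := hstd
  obtain ⟨ι, σ, hσ, hι, ⟨P⟩⟩ := hstd'.out
  refine ⟨V, P.dimension, hxV, fun x' hx' => ?_⟩
  refine fibreDimAt_eq_of_chart f P.dimension hU hV e ?_ x' hx'
  exact ⟨ι, σ, hσ, hι, P, rfl⟩

/-- **Local dimension of the source of a smooth morphism.** -/
theorem localDim_eq_of_smooth [Smooth f] [IsLocallyNoetherian X] [IsLocallyNoetherian Y] (x : X) :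
    FlatMor.localDim X x = FlatMor.localDim Y (f x) + FlatMor.fibreDimAt f x := by
  obtain ⟨V, n, hxV, hn⟩ := exists_open_fibreDimAt_eq f x
  have hd : ∀ v : V.toScheme, FlatMor.fibreDimAt (V.ι ≫ f) v = (n : WithBot ℕ∞) := by
    intro v
    rw [Groth.Agent.Helper19.RelDim.fibreDimAt_etale_comp V.ι f v]
    exact hn _ v.2
  have h1 := localDim_eq (V.ι ≫ f) n hd ⟨x, hxV⟩
  have h2 := Groth.Agent.Helper15.localDim_eq_of_etale V.ι ⟨x, hxV⟩
  rw [h2] at h1
  rw [hn x hxV]
  exact h1

end Groth.Agent.Helper19.LocDim
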