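import Groth.Agent.Lib.Helper19.LocDim.Smooth
import Groth.Agent.Lib.Helper19.RelDim.Sp
import Groth.Agent.Lib.Helper15.AlgSpDimEt
import Groth.Agent.Lib.Helper15.AlgSpNoeth
import Groth.Agent.Lib.Helper15.TrdegQF
import Groth.Agent.Lib.Helper15.AlgSpLocP2

/-!
# Local dimension formulas for flat / smooth morphisms of algebraic spaces
-/

set_option autoImplicit false
set_option linter.style.haveILetI false
universe u
open CategoryTheory CategoryTheory.Limits AlgebraicGeometry MorphismProperty
open AlgSp Groth.Agent.Helper15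

namespace Groth.Agent.Helper19.LocDim

variable {S : Scheme.{u}}

theorem ofPt_chart_image {X Y : Sp S} (f : X ⟶ Y) {U V : Over S} (a : (yon S).obj U ⟶ X)
    (b : (yon S).obj V ⟶ Y) (h : U ⟶ V) (comm : a ≫ f = (yon S).map h ≫ b) (u : U.left) :
    Points.ofPt b (h.left u) = Points.map f (Points.ofPt a u) := by
  rw [Points.map_ofPt, comm, ofPt_comp_yon_map]

/-- S10314 at the level of sheaves -/
theorem localDim_eq_of_flat_lft {X Y : Sp S} (hXa : IsAlgSpace X) (hYa : IsAlgSpace Y)
    (f : X ⟶ Y) (hX : IsLocNoethSp X) (hY : IsLocNoethSp Y) (hf : LocP @Flat f)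
    (hf' : LocP @LocallyOfFiniteType f) (d : ℕ)
    (hd : ∀ x : Points X,
      HasAtMor (fun _ _ h u => FlatMor.fibreDimAt h u = (d : WithBot ℕ∞)) f x)
    (x : Points X) (dX dY : WithBot ℕ∞)
    (hx : HasAt (fun U u => FlatMor.localDim ↥U u = dX) X x)
    (hy : HasAt (fun U u => FlatMor.localDim ↥U u = dY) Y (Points.map f x)) :
    dX = dY + (d : WithBot ℕ∞) := by
  obtain ⟨U, V, a, b, h, u, ha, hb, comm, hxu, hlft⟩ := Trdeg.exists_chart_at hXa hYa f hf' x
  haveI : LocallyOfFiniteType h.left := hlft
  haveI : Flat h.left := hf a b h ha hb comm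
  haveI : IsLocallyNoetherian U.left := isLocallyNoetherian_of_etale_of_isLocNoethSp hX a ha
  haveI : IsLocallyNoetherian V.left := isLocallyNoetherian_of_etale_of_isLocNoethSp hY b hb
  have h1 : FlatMor.localDim U.left u = dX :=
    hasAt_forall_chart (etInv_localDim dX) x hx U a u ha hxu
  have hv : Points.ofPt b (h.left u) = Points.map f x := by
    rw [ofPt_chart_image f a b h comm u, hxu]
  have h2 : FlatMor.localDim V.left (h.left u) = dY :=
    hasAt_forall_chart (etInv_localDim dY) _ hy V b _ hb hv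
  have hdu : ∀ u' : U.left, FlatMor.fibreDimAt h.left u' = (d : WithBot ℕ∞) := fun u' =>
    (Groth.Agent.Helper19.RelDim.hasAtMor_fibreDimAt_iff f hf' (fun t => t = (d : WithBot ℕ∞))
      a b h ha hb comm u').1 (hd _)
  have := localDim_eq h.left d hdu u
  rw [h1, h2] at this
  exact this

/-- S10315 at the level of sheaves -/
theorem localDim_eq_of_smooth_sp {X Y : Sp S} (hXa : IsAlgSpace X) (hYa : IsAlgSpace Y)
    (f : X ⟶ Y) (hX : IsLocNoethSp X) (hY : IsLocNoethSp Y) (hf : LocP @Smooth f)
    (x : Points X) (d dX dY : WithBot ℕ∞)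
    (hd : HasAtMor (fun _ _ h u => FlatMor.fibreDimAt h u = d) f x)
    (hx : HasAt (fun U u => FlatMor.localDim ↥U u = dX) X x)
    (hy : HasAt (fun U u => FlatMor.localDim ↥U u = dY) Y (Points.map f x)) :
    dX = dY + d := by
  have hf' : LocP @LocallyOfFiniteType f :=
    locP_mono (fun _ _ g hg => by haveI : Smooth g := hg; infer_instance) hf
  obtain ⟨U, V, a, b, h, u, ha, hb, comm, hxu, hsm⟩ := Trdeg.exists_chart_at hXa hYa f hf x
  haveI : Smooth h.left := hsm
  haveI : IsLocallyNoetherian U.left := isLocallyNoetherian_of_etale_of_isLocNoethSp hX a ha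
  haveI : IsLocallyNoetherian V.left := isLocallyNoetherian_of_etale_of_isLocNoethSp hY b hb
  have h1 : FlatMor.localDim U.left u = dX :=
    hasAt_forall_chart (etInv_localDim dX) x hx U a u ha hxu
  have hv : Points.ofPt b (h.left u) = Points.map f x := by
    rw [ofPt_chart_image f a b h comm u, hxu]
  have h2 : FlatMor.localDim V.left (h.left u) = dY :=
    hasAt_forall_chart (etInv_localDim dY) _ hy V b _ hb hv
  have hdu : FlatMor.fibreDimAt h.left u = d := by
    have hd' : HasAtMor (fun _ _ h u => FlatMor.fibreDimAt h u = d) f (Points.ofPt a u) := by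
      rw [hxu]; exact hd
    exact (Groth.Agent.Helper19.RelDim.hasAtMor_fibreDimAt_iff f hf' (fun t => t = d)
      a b h ha hb comm u).1 hd'
  have := localDim_eq_of_smooth h.left u
  rw [h1, h2, hdu] at this
  exact this

end Groth.Agent.Helper19.LocDim
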